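import Groth.Agent.DualCxDuality.Pairing
import Groth.Agent.DualCx.RHomFinite
import Groth.Agent.DualCx.HDI
import Groth.Agent.DRingKP.Modules

/-!
Local duality for bounded complexes with finite cohomology.
-/

set_option autoImplicit false
set_option maxHeartbeats 1000000
set_option linter.style.haveILetI false
set_option backward.isDefEq.respectTransparency false
set_option backward.isDefEq.respectTransparency.types false
universe u

namespace Groth.Agent.DualCxDuality

open CategoryTheory Limits DerivedCategory Pretriangulated Abelian IsLocalRing DualCx Opposite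

attribute [local instance] HasDerivedCategory.standard

noncomputable section

variable {A : Type u} [CommRing A] [IsLocalRing A] [IsNoetherianRing A] {ω : Dual.D A}
  (hω : Dual.IsDualizing A ω) (hn : Dual.IsNormalized A ω) {E : Type u} [AddCommGroup E] [Module A E]
  {f : (A ⧸ maximalIdeal A) →ₗ[A] E} (hf : InjHull.IsInjectiveHull f) (Φ : Fam ω E)
include hω hn hf

theorem goodAt_inD (N : Type u) [AddCommGroup N] [Module A N] [Module.Finite A N] (i : ℤ) :
    GoodAt Φ (Dual.inD A N) i := by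
  by_cases hi : i < 0
  · refine goodAt_of_zero (fun n α => ⟨n, le_rfl, ?_⟩)
      ((van_maximal_iff (-i)).1 (van_pos hn hω (by lia)))
    have : α = 0 := DerivedCategory.TStructure.t.zero_of_isLE_of_isGE α 0 (-i) (by lia)
      ((inferInstance : (Dual.inD A (Q A n)).IsLE 0))
      (DerivedCategory.TStructure.t.isGE_shift (Dual.inD A N) 0 i (-i) (by lia))
    rw [this, comp_zero]
  · obtain ⟨j, rfl⟩ := Int.eq_ofNat_of_zero_le (not_lt.1 hi)
    refine ⟨fun n α hα => ?_, fun l => ?_⟩
    · obtain ⟨e, rfl⟩ : ∃ e : Ext (LocH.quotObj (maximalIdeal A) n) (ModuleCat.of A N) j, e.hom = α :=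
        ⟨Ext.homEquiv.symm α, Equiv.apply_symm_apply _ α⟩
      have h1 : Φ.th N j (LocH.hι (maximalIdeal A) (ModuleCat.of A N) j n e) = 0 := by
        erw [Φ.theta_hι]
        exact hα
      rw [← map_zero (Φ.th N j)] at h1
      have h2 := (th_bijective hω hn hf Φ j N).1 h1
      obtain ⟨m, hm, h3⟩ := LocH.hι_eq_zero_iff.1 h2
      refine ⟨m, hm, ?_⟩
      have h4 := congrArg Ext.hom h3
      rw [Ext.comp_hom, Ext.mk₀_hom, ShiftedHom.mk₀_comp, Ext.zero_hom] at h4
      exact h4
    · obtain ⟨y, hy⟩ := (th_bijective hω hn hf Φ j N).2 l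
      obtain ⟨n, e, rfl⟩ := LocH.exists_hι y
      exact ⟨n, e.hom, (Φ.theta_hι (deg j) e).symm.trans hy⟩

theorem goodAt_single (N : ModuleCat.{u} A) [Module.Finite A N] (d i : ℤ) :
    GoodAt Φ ((DerivedCategory.singleFunctor (ModuleCat.{u} A) d).obj N) i := by
  let e := ((DerivedCategory.singleFunctors (ModuleCat.{u} A)).shiftIso d 0 d (add_zero d)).app N
  refine goodAt_of_iso ((shiftFunctor (Dual.D A) (-d)).mapIso e.symm ≪≫
    (shiftFunctorCompIsoId (Dual.D A) d (-d) (by lia)).app _) ?_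
  exact goodAt_shift (goodAt_inD hω hn hf Φ N (i + -d))

theorem goodAt_amplitude {c : ℤ} :
    ∀ (k : ℕ) (d : ℤ) (N : Dual.D A), d < c + k → (∀ j, Module.Finite A (Dual.HD A N j)) →
      (∀ j, (j < c ∨ d < j) → IsZero ((DerivedCategory.homologyFunctor (ModuleCat.{u} A) j).obj N)) →
      ∀ i : ℤ, GoodAt Φ N i := by
  intro k
  induction k with
  | zero =>
    intro d N hd _ hz i
    haveI : N.IsLE (c - 1) := (DerivedCategory.isLE_iff N (c - 1)).2 fun j _ => hz j (by lia)
    haveI : N.IsGE c := (DerivedCategory.isGE_iff N c).2 fun j hj => hz j (Or.inl hj)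
    have h0 : IsZero N := DerivedCategory.TStructure.t.isZero N (c - 1) c (by lia)
    refine goodAt_of_zero (fun n α => ⟨n, le_rfl, ?_⟩) ⟨fun a b => h0.eq_of_src a b⟩
    rw [((shiftFunctor (Dual.D A) i).map_isZero h0).eq_of_tgt α 0, comp_zero]
  | succ k ih =>
    intro d N hd hfin hz i
    obtain ⟨X, B, f', g, w, hT, hX, hlt, ⟨e⟩⟩ := DRingKP.exists_top_triangle N d fun j hj => hz j (Or.inr (by lia))
    have hX' : ∀ j, (j < c ∨ d - 1 < j) → IsZero ((DerivedCategory.homologyFunctor (ModuleCat.{u} A) j).obj X) := by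
      intro j hj
      by_cases hj' : j < d
      · exact (hz j (by lia)).of_iso (hlt j hj').some
      · exact hX j (by lia)
    have hXf : ∀ j, Module.Finite A (Dual.HD A X j) := fun j => by
      by_cases hj' : j < d
      · haveI := hfin j
        exact Module.Finite.equiv (hlt j hj').some.toLinearEquiv.symm
      · exact finite_of_subsingleton' (ModuleCat.subsingleton_of_isZero (hX j (by lia)))
    haveI := hfin d
    have hB : ∀ j, GoodAt Φ B j := fun j => goodAt_of_iso e.symm (goodAt_single hω hn hf Φ _ d j)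
    exact goodAt_glue hf.isInjective hT (ih (d - 1) X (by lia) hXf hX' i) (ih (d - 1) X (by lia) hXf hX' (i + 1))
      (hB i) (hB (i - 1))

theorem goodAt_bounded (K : Dual.D A) (hfin : ∀ j, Module.Finite A (Dual.HD A K j))
    (hbd : ∃ a b : ℤ, ∀ j : ℤ, (j < a ∨ b < j) → Subsingleton (Dual.HD A K j)) (i : ℤ) : GoodAt Φ K i := by
  obtain ⟨a, b, hab⟩ := hbd
  refine goodAt_amplitude hω hn hf Φ (c := a) (max (b + 1 - a) 0).toNat b K (by lia) hfin (fun j hj => ?_) i
  haveI := hab j hj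
  exact ModuleCat.isZero_of_subsingleton _

omit hω hn hf

omit [IsNoetherianRing A] in
theorem exists_rep (X : Dual.D A) (i : ℤ) (x : Dual2.HDI A (maximalIdeal A) X i) :
    ∃ (n : ℕ) (y : (hdiDiag X i).obj (op (op n))), colimit.ι (hdiDiag X i) (op (op n)) y = x :=
  DualCx.exists_rep i x

/-- The duality map on `Dual2.HDI`. -/
def psi (X : Dual.D A) (i : ℤ) :
    (Dual2.HDI A (maximalIdeal A) X i : ModuleCat.{u + 1} A) →ₗ[A] ((X ⟶ ω⟦-i⟧) →ₗ[A] E) :=
  (colimit.desc (hdiDiag X i)
    { pt := ModuleCat.of A ((X ⟶ ω⟦-i⟧) →ₗ[A] E)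
      ι :=
        { app := fun j => ModuleCat.ofHom
            { toFun := fun α => θ Φ (n := j.unop.unop) α
              map_add' := fun α β => θ_add Φ α β
              map_smul' := fun c α => θ_smul Φ c α }
          naturality := fun _ _ g => ModuleCat.hom_ext (LinearMap.ext fun α =>
            θ_res Φ (leOfHom g.unop.unop) α) } }).hom

theorem psi_ι (X : Dual.D A) (i : ℤ) (j : ℕᵒᵖᵒᵖ) (α : Qo A j.unop.unop ⟶ X⟦i⟧) :
    psi Φ X i (colimit.ι (hdiDiag X i) j α) = θ Φ α := by
  show (colimit.ι (hdiDiag X i) j ≫ colimit.desc (hdiDiag X i) _).hom α = _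
  rw [colimit.ι_desc]
  rfl

theorem psi_bijective {X : Dual.D A} {i : ℤ} (h : GoodAt Φ X i) : Function.Bijective (psi Φ X i) := by
  refine ⟨(injective_iff_map_eq_zero _).2 fun x hx => ?_, fun l => ?_⟩
  · obtain ⟨n, y, rfl⟩ := exists_rep X i x
    rw [psi_ι] at hx
    obtain ⟨m, hm, h0⟩ := h.1 n y hx
    let g : (op (op n) : ℕᵒᵖᵒᵖ) ⟶ op (op m) := (homOfLE hm).op.op
    refine Eq.trans (congrArg (fun q => q.hom y) (colimit.w (hdiDiag X i) g)).symm ?_
    have h2 : (hdiDiag X i).map g y = 0 := h0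
    show (colimit.ι (hdiDiag X i) (op (op m))).hom ((hdiDiag X i).map g y) = 0
    rw [h2, map_zero]
  · obtain ⟨n, α, rfl⟩ := h.2 l
    exact ⟨_, psi_ι Φ X i (op (op n)) α⟩

include hω hn hf

omit Φ in
theorem nonempty_hdi_equiv (X : Dual.D A) (i : ℤ) (h : ∀ Ψ : Fam ω E, GoodAt Ψ X i) :
    Nonempty (Dual2.HDI A (maximalIdeal A) X i ≃ₗ[A] ((X ⟶ ω⟦-i⟧) →ₗ[A] E)) := by
  obtain ⟨φ, h1, h2⟩ := exists_family hω hn hf
  exact ⟨LinearEquiv.ofBijective _ (psi_bijective ⟨φ, h1, h2⟩ (h _))⟩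

omit hn hf Φ [IsLocalRing A] in
theorem finite_hom (X : Dual.D A) (hfin : ∀ j, Module.Finite A (Dual.HD A X j)) (i : ℤ) :
    Module.Finite A (X ⟶ ω⟦i⟧) := by
  obtain ⟨a, b, hab⟩ := hω.finite_injective_dimension
  exact finite_hom_of_injAmp hfin hω.finite_cohomology
    ((DRingKP.injAmp_iff ω a b).2 fun I j hj => hab (A ⧸ I) j hj) i

end

end Groth.Agent.DualCxDuality
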