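import Groth.Agent.DualCxDuality.Bounded
import Groth.Agent.DualCx.DualityApps
import Groth.Agent.RGammaI.HDI

/-!
Vanishing of local cohomology against vanishing of morphisms into the dualizing complex.
-/

set_option autoImplicit false
set_option maxHeartbeats 1000000
set_option linter.style.haveILetI false
universe u

namespace Groth.Agent.DualCxDuality

open CategoryTheory Limits DerivedCategory IsLocalRing DualCx

attribute [local instance] HasDerivedCategory.standard

noncomputable section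

variable {A : Type u} [CommRing A] [IsLocalRing A] [IsNoetherianRing A]

theorem subsingleton_hd_rgamma_iff (ω : Dual.D A) (hω : Dual.IsDualizing A ω) (hn : Dual.IsNormalized A ω)
    [DRing.HasRgammaI (maximalIdeal A)] (M : Dual.D A) (hfin : ∀ j, Module.Finite A (Dual.HD A M j))
    (hbd : ∃ a b : ℤ, ∀ j : ℤ, (j < a ∨ b < j) → Subsingleton (Dual.HD A M j)) (i : ℤ) :
    Subsingleton (Dual.HD A ((DRing.RgammaI (maximalIdeal A)).obj M) i) ↔ Subsingleton (M ⟶ ω⟦-i⟧) := by
  obtain ⟨E, _, _, g, hg⟩ := InjHull.exists_isInjectiveHull A (A ⧸ maximalIdeal A)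
  obtain ⟨e1⟩ := RGammaI.nonempty_HD_equiv (maximalIdeal A) M i
  obtain ⟨e2⟩ := nonempty_hdi_equiv hω hn hg M i fun Ψ => goodAt_bounded hω hn hg Ψ M hfin hbd i
  haveI := finite_hom hω M hfin (-i)
  have h := annihilator_dual hg (M ⟶ ω⟦-i⟧)
  rw [(e1.trans e2).toEquiv.subsingleton_congr, ← Module.annihilator_eq_top_iff (R := A),
    ← Module.annihilator_eq_top_iff (R := A), h]

theorem concentration_iff (ω : Dual.D A) (hω : Dual.IsDualizing A ω) (hn : Dual.IsNormalized A ω)
    [DRing.HasRgammaI (maximalIdeal A)] (M : Dual.D A) (hfin : ∀ j, Module.Finite A (Dual.HD A M j))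
    (hbd : ∃ a b : ℤ, ∀ j : ℤ, (j < a ∨ b < j) → Subsingleton (Dual.HD A M j)) :
    ((∀ i : ℤ, i < 0 → Subsingleton (M ⟶ ω⟦i⟧)) ↔
      (∀ i : ℤ, 0 < i → Subsingleton (Dual.HD A ((DRing.RgammaI (maximalIdeal A)).obj M) i))) ∧
    ((∀ i : ℤ, 0 < i → Subsingleton (M ⟶ ω⟦i⟧)) ↔
      (∀ i : ℤ, i < 0 → Subsingleton (Dual.HD A ((DRing.RgammaI (maximalIdeal A)).obj M) i))) := by
  have key := subsingleton_hd_rgamma_iff ω hω hn M hfin hbd
  refine ⟨⟨fun h i hi => (key i).2 (h (-i) (by lia)), fun h i hi => ?_⟩,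
    ⟨fun h i hi => (key i).2 (h (-i) (by lia)), fun h i hi => ?_⟩⟩
  · simpa using (key (-i)).1 (h (-i) (by lia))
  · simpa using (key (-i)).1 (h (-i) (by lia))

end

end Groth.Agent.DualCxDuality
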