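import Groth.Agent.DualCx.Duality
import Groth.Prelude.Def_DualLC

/-!
Local duality for complexes: the pairing and its formal properties.
-/

set_option autoImplicit false
set_option maxHeartbeats 1000000
universe u

namespace Groth.Agent.DualCxDuality

open CategoryTheory Limits DerivedCategory Pretriangulated Abelian IsLocalRing DualCx

attribute [local instance] HasDerivedCategory.standard

noncomputable section

variable {A : Type u} [CommRing A] [IsLocalRing A] {ω : Dual.D A} {E : Type u} [AddCommGroup E] [Module A E]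
  (Φ : Fam ω E) {X Y : Dual.D A} {i : ℤ}

/-- `A/𝔪ⁿ` as an object of the derived category. -/
abbrev Qo (A : Type u) [CommRing A] [IsLocalRing A] (n : ℕ) : Dual.D A := Dual.inD A (Q A n)

/-- The transition morphism. -/
abbrev trD {n m : ℕ} (h : n ≤ m) : Qo A m ⟶ Qo A n :=
  (DerivedCategory.singleFunctor (ModuleCat.{u} A) 0).map (ModuleCat.ofHom (tr (A := A) h))

theorem trD_comp {n m k : ℕ} (h : n ≤ m) (h' : m ≤ k) : trD (A := A) h' ≫ trD h = trD (h.trans h') := by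
  rw [trD, trD, trD, ← Functor.map_comp]
  congr 1
  exact ModuleCat.hom_ext (Submodule.linearMap_qext _ (LinearMap.ext fun c => rfl))

theorem trD_res {n m k : ℕ} (h : n ≤ m) (h' : m ≤ k) {Z : Dual.D A} (α : Qo A n ⟶ Z) :
    trD h' ≫ trD h ≫ α = trD (h.trans h') ≫ α := by
  rw [← Category.assoc, trD_comp]

/-- Composition with a class. -/
def pairD {n : ℕ} (α : Qo A n ⟶ X⟦i⟧) : (X ⟶ ω⟦-i⟧) →ₗ[A] T ω (Q A n) 0 where
  toFun x := ShiftedHom.comp (C := Dual.D A) (M := ℤ) (a := i) α x (neg_add_cancel i)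
  map_add' _ _ := ShiftedHom.comp_add _ _ _ _
  map_smul' _ _ := ShiftedHom.comp_smul _ _ _ _

theorem pairD_apply {n : ℕ} (α : Qo A n ⟶ X⟦i⟧) (x : X ⟶ ω⟦-i⟧) :
    pairD α x = α ≫ x⟦i⟧' ≫ (shiftFunctorAdd' (Dual.D A) (-i) i 0 (neg_add_cancel i)).inv.app ω := rfl

/-- The functional attached to a class. -/
def θ {n : ℕ} (α : Qo A n ⟶ X⟦i⟧) : (X ⟶ ω⟦-i⟧) →ₗ[A] E :=
  (Φ.φ n).comp ((pre ω 0 (tr (Nat.le_succ n))).comp (pairD α))

theorem θ_apply {n : ℕ} (α : Qo A n ⟶ X⟦i⟧) (x : X ⟶ ω⟦-i⟧) :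
    θ Φ α x = Φ.φ n (pre ω 0 (tr (Nat.le_succ n)) (pairD α x)) := rfl

theorem θ_res {n m : ℕ} (h : n ≤ m) (α : Qo A n ⟶ X⟦i⟧) : θ Φ (trD h ≫ α) = θ Φ α := by
  refine LinearMap.ext fun x => ?_
  rw [θ_apply, θ_apply]
  have h1 : pairD (trD h ≫ α) x = pre ω 0 (tr h) (pairD α x) := by
    rw [pre_apply, pairD_apply, pairD_apply, Category.assoc]
  rw [h1, ← Φ.compat_le h, ← pre_comp, ← pre_comp]
  congr 1
  refine congrArg (fun g => pre ω 0 g (pairD α x)) ?_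
  exact Submodule.linearMap_qext _ (LinearMap.ext fun c => rfl)

theorem θ_add {n : ℕ} (α β : Qo A n ⟶ X⟦i⟧) : θ Φ (α + β) = θ Φ α + θ Φ β := by
  refine LinearMap.ext fun x => ?_
  have h : pairD (α + β) x = pairD α x + pairD β x := by
    simp only [pairD_apply, Preadditive.add_comp]
  rw [θ_apply, h, map_add, map_add]
  rfl

theorem θ_smul {n : ℕ} (c : A) (α : Qo A n ⟶ X⟦i⟧) : θ Φ (c • α) = c • θ Φ α := by
  refine LinearMap.ext fun x => ?_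
  have h : pairD (c • α) x = c • pairD α x := by
    simp only [pairD_apply, Linear.smul_comp]
  rw [θ_apply, h, map_smul, map_smul]
  rfl

theorem θ_sub {n : ℕ} (α β : Qo A n ⟶ X⟦i⟧) : θ Φ (α - β) = θ Φ α - θ Φ β :=
  eq_sub_of_add_eq (by rw [← θ_add, sub_add_cancel])

theorem θ_zero (n : ℕ) : θ Φ (0 : Qo A n ⟶ X⟦i⟧) = 0 := by
  rw [← sub_self (0 : Qo A n ⟶ X⟦i⟧), θ_sub, sub_self]

theorem θ_comp {n : ℕ} (α : Qo A n ⟶ X⟦i⟧) (f : X ⟶ Y) :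
    θ Φ (α ≫ f⟦i⟧') = (θ Φ α).comp (Linear.leftComp A (ω⟦-i⟧) f) := by
  refine LinearMap.ext fun x => ?_
  rw [LinearMap.comp_apply, θ_apply, θ_apply]
  have h : pairD (α ≫ f⟦i⟧') x = pairD α (f ≫ x) := by
    rw [pairD_apply, pairD_apply, Functor.map_comp]
    simp only [Category.assoc]
  rw [h]
  rfl

/-- Injectivity of the duality map, on representatives. -/
def InjAt (X : Dual.D A) (i : ℤ) : Prop :=
  ∀ (n : ℕ) (α : Qo A n ⟶ X⟦i⟧), θ Φ α = 0 → ∃ (m : ℕ) (h : n ≤ m), trD h ≫ α = 0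

/-- Surjectivity of the duality map, on representatives. -/
def SurjAt (X : Dual.D A) (i : ℤ) : Prop :=
  ∀ l : (X ⟶ ω⟦-i⟧) →ₗ[A] E, ∃ (n : ℕ) (α : Qo A n ⟶ X⟦i⟧), θ Φ α = l

/-- The duality map is bijective. -/
def GoodAt (X : Dual.D A) (i : ℤ) : Prop := InjAt Φ X i ∧ SurjAt Φ X i

variable {Φ}

theorem goodAt_of_zero (hH : ∀ (n : ℕ) (α : Qo A n ⟶ X⟦i⟧), ∃ (m : ℕ) (h : n ≤ m), trD h ≫ α = 0)
    (hT : Subsingleton (X ⟶ ω⟦-i⟧)) : GoodAt Φ X i :=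
  ⟨fun n α _ => hH n α, fun l => ⟨0, 0, LinearMap.ext fun x => by
    rw [@Subsingleton.elim _ hT x 0, map_zero, map_zero]⟩⟩

variable {X Y Z : Dual.D A} {f : X ⟶ Y} {g : Y ⟶ Z} {h : Z ⟶ X⟦(1 : ℤ)⟧}

omit [IsLocalRing A] in
theorem exact_cov (hT : Triangle.mk f g h ∈ distTriang (Dual.D A)) {W : Dual.D A} {i : ℤ}
    (α : W ⟶ Y⟦i⟧) (h0 : α ≫ g⟦i⟧' = 0) : ∃ β : W ⟶ X⟦i⟧, β ≫ f⟦i⟧' = α := by
  obtain ⟨β, hβ⟩ := Triangle.coyoneda_exact₂ _ (Triangle.shift_distinguished _ hT i) α (by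
    show α ≫ ((Int.negOnePow i : ℤˣ) • g⟦i⟧') = 0
    rw [Units.smul_def, Preadditive.comp_zsmul, h0, smul_zero])
  change W ⟶ X⟦i⟧ at β
  change α = β ≫ ((Int.negOnePow i : ℤˣ) • f⟦i⟧') at hβ
  refine ⟨((Int.negOnePow i : ℤˣ) : ℤ) • β, ?_⟩
  rw [hβ, Units.smul_def, Preadditive.comp_zsmul, Preadditive.zsmul_comp]

omit [IsLocalRing A] in
theorem exists_invRotate (hT : Triangle.mk f g h ∈ distTriang (Dual.D A)) :
    ∃ (w : Z⟦(-1 : ℤ)⟧ ⟶ X) (g' : Y ⟶ Z⟦(-1 : ℤ)⟧⟦(1 : ℤ)⟧), Triangle.mk w f g' ∈ distTriang (Dual.D A) :=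
  ⟨_, _, inv_rot_of_distTriang _ hT⟩

theorem exact_dual [IsNoetherianRing A] (hE : Module.Injective A E) (hT : Triangle.mk f g h ∈ distTriang (Dual.D A))
    {W : Dual.D A} (l : (Y ⟶ W) →ₗ[A] E) (h0 : l.comp (Linear.leftComp A W g) = 0) :
    ∃ l' : (X ⟶ W) →ₗ[A] E, l'.comp (Linear.leftComp A W f) = l :=
  DualCx.exists_factor hE _ l fun x hx => by
    obtain ⟨y, hy⟩ := Triangle.yoneda_exact₂ _ hT x hx
    change x = g ≫ y at hy
    rw [LinearMap.mem_ker, hy]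
    exact LinearMap.congr_fun h0 y

variable [IsNoetherianRing A] (hE : Module.Injective A E) (hT : Triangle.mk f g h ∈ distTriang (Dual.D A))
include hE hT

theorem injAt_mid (h₁ : InjAt Φ X i) (h₃ : InjAt Φ Z i) (h₀ : SurjAt Φ (Z⟦(-1 : ℤ)⟧) i) : InjAt Φ Y i := by
  intro n α hα
  obtain ⟨w, g', hT'⟩ := exists_invRotate hT
  obtain ⟨m, hm, hz⟩ := h₃ n (α ≫ g⟦i⟧') (by rw [θ_comp, hα, LinearMap.zero_comp])
  obtain ⟨β, hβ⟩ := exact_cov hT (trD hm ≫ α) (by rw [Category.assoc, hz])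
  have hβ0 : (θ Φ β).comp (Linear.leftComp A (ω⟦-i⟧) f) = 0 := by rw [← θ_comp, hβ, θ_res, hα]
  obtain ⟨l, hl⟩ := exact_dual hE hT' (θ Φ β) hβ0
  obtain ⟨p, γ, rfl⟩ := h₀ l
  obtain ⟨r, hr, hr0⟩ := h₁ (max m p) (trD (le_max_left m p) ≫ β - (trD (le_max_right m p) ≫ γ) ≫ w⟦i⟧') (by
    rw [θ_sub, θ_comp, θ_res, θ_res]
    exact sub_eq_zero.2 hl.symm)
  rw [Preadditive.comp_sub, sub_eq_zero] at hr0
  refine ⟨r, hm.trans ((le_max_left m p).trans hr), ?_⟩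
  have e := congrArg (· ≫ f⟦i⟧') hr0
  simp only [Category.assoc] at e
  have z : w ≫ f = 0 := comp_distTriang_mor_zero₁₂ _ hT'
  rw [hβ, ← Functor.map_comp, z, Functor.map_zero, comp_zero, comp_zero, comp_zero, trD_res, trD_res] at e
  exact e

theorem surjAt_mid (h₁ : SurjAt Φ X i) (h₃ : SurjAt Φ Z i) (h₄ : InjAt Φ (X⟦(1 : ℤ)⟧) i) : SurjAt Φ Y i := by
  intro l
  obtain ⟨n, γ, hγ⟩ := h₃ (l.comp (Linear.leftComp A (ω⟦-i⟧) g))
  have hz : ∀ x, g ≫ h ≫ x = (0 : Y ⟶ ω⟦-i⟧) := fun x => by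
    rw [← Category.assoc, show g ≫ h = 0 from comp_distTriang_mor_zero₂₃ _ hT, zero_comp]
  obtain ⟨m, hm, hm0⟩ := h₄ n (γ ≫ h⟦i⟧') (by
    rw [θ_comp, hγ]
    exact LinearMap.ext fun x => (congrArg l (hz x)).trans (map_zero l))
  obtain ⟨β, hβ⟩ := exact_cov (f := g) (g := h) (h := -f⟦(1 : ℤ)⟧') (rot_of_distTriang _ hT) (trD hm ≫ γ) (by
    rw [Category.assoc]
    exact hm0)
  have h0 : (l - θ Φ β).comp (Linear.leftComp A (ω⟦-i⟧) g) = 0 := by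
    rw [LinearMap.sub_comp, ← θ_comp, hβ, θ_res, hγ, sub_self]
  obtain ⟨l', hl'⟩ := exact_dual hE hT (l - θ Φ β) h0
  obtain ⟨p, α, rfl⟩ := h₁ l'
  refine ⟨max m p, trD (le_max_left m p) ≫ β + (trD (le_max_right m p) ≫ α) ≫ f⟦i⟧', ?_⟩
  rw [θ_add, θ_comp, θ_res, θ_res, hl']
  exact add_sub_cancel _ _

theorem goodAt_of_triangle (h₁ : GoodAt Φ X i) (h₃ : GoodAt Φ Z i)
    (h₀ : SurjAt Φ (Z⟦(-1 : ℤ)⟧) i) (h₄ : InjAt Φ (X⟦(1 : ℤ)⟧) i) : GoodAt Φ Y i :=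
  ⟨injAt_mid hE hT h₁.1 h₃.1 h₀, surjAt_mid hE hT h₁.2 h₃.2 h₄⟩

omit hE hT

section
omit [IsNoetherianRing A]

theorem surjAt_of_iso (e : X ≅ Y) (h : SurjAt Φ X i) : SurjAt Φ Y i := by
  intro l
  obtain ⟨n, α, hα⟩ := h (l.comp (Linear.leftComp A (ω⟦-i⟧) e.inv))
  refine ⟨n, α ≫ e.hom⟦i⟧', LinearMap.ext fun x => ?_⟩
  rw [θ_comp, hα]
  show l (e.inv ≫ e.hom ≫ x) = l x
  rw [Iso.inv_hom_id_assoc]

theorem injAt_of_iso (e : X ≅ Y) (h : InjAt Φ X i) : InjAt Φ Y i := by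
  intro n α hα
  obtain ⟨m, hm, h0⟩ := h n (α ≫ e.inv⟦i⟧') (by rw [θ_comp, hα, LinearMap.zero_comp])
  refine ⟨m, hm, (cancel_mono (e.inv⟦i⟧')).1 ?_⟩
  rw [Category.assoc, h0, zero_comp]

theorem goodAt_of_iso (e : X ≅ Y) (h : GoodAt Φ X i) : GoodAt Φ Y i :=
  ⟨injAt_of_iso e h.1, surjAt_of_iso e h.2⟩

/-- The identity, as a shifted morphism `X⟦k⟧ → X`. -/
abbrev shId (X : Dual.D A) (k : ℤ) : ShiftedHom (X⟦k⟧) X k := 𝟙 (X⟦k⟧)

omit [IsLocalRing A] in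
theorem shId_comp_surjective (X : Dual.D A) {k a b : ℤ} (h : a + k = b) (y : X⟦k⟧ ⟶ ω⟦b⟧) :
    ∃ x : X ⟶ ω⟦a⟧, (shId X k).comp x h = y := by
  refine ⟨(shiftFunctor (Dual.D A) k).preimage (y ≫ (shiftFunctorAdd' (Dual.D A) a k b h).hom.app ω), ?_⟩
  show 𝟙 _ ≫ _ ≫ _ = y
  rw [Category.id_comp, Functor.map_preimage, Category.assoc, Iso.hom_inv_id_app, Category.comp_id]

theorem pairD_shId {k : ℤ} {n : ℕ} (α : Qo A n ⟶ X⟦k⟧⟦i⟧) (hd : -(i + k) + k = -i) (x : X ⟶ ω⟦-(i + k)⟧) :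
    pairD α ((shId X k).comp x hd) =
      pairD (α ≫ (shiftFunctorAdd' (Dual.D A) k i (i + k) (add_comm k i)).inv.app X) x := by
  have e := ShiftedHom.comp_assoc (C := Dual.D A) (M := ℤ) (X := Qo A n) (Y := X⟦k⟧) (Z := X) (T := ω)
    (a₁ := i) (a₂ := k) (a₃ := -(i + k)) (a₁₂ := i + k) (a₂₃ := -i) (a := (0 : ℤ))
    α (shId X k) x (add_comm k i) hd (show -(i + k) + k + i = 0 by ring)
  have e1 : ShiftedHom.comp (C := Dual.D A) (M := ℤ) (X := Qo A n) (Y := X⟦k⟧) (Z := X) (a := i) (b := k) (c := i + k)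
      α (shId X k) (add_comm k i) = α ≫ (shiftFunctorAdd' (Dual.D A) k i (i + k) (add_comm k i)).inv.app X := by
    simp only [ShiftedHom.comp, CategoryTheory.Functor.map_id, Category.id_comp]
  rw [e1] at e
  exact e.symm

/-- Precomposition with the identity, as a linear map. -/
def shPre (X W : Dual.D A) {k a b : ℤ} (h : a + k = b) : (X ⟶ W⟦a⟧) →ₗ[A] (X⟦k⟧ ⟶ W⟦b⟧) :=
  (Linear.rightComp A (X⟦k⟧) ((shiftFunctorAdd' (Dual.D A) a k b h).inv.app W)).comp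
    ((shiftFunctor (Dual.D A) k).mapLinearMap A)

omit [IsLocalRing A] in
theorem shPre_apply {k a b : ℤ} (h : a + k = b) (x : X ⟶ ω⟦a⟧) :
    shPre X ω h x = (shId X k).comp x h := by
  show x⟦k⟧' ≫ _ = 𝟙 _ ≫ x⟦k⟧' ≫ _
  rw [Category.id_comp]

theorem surjAt_shift {k : ℤ} (h : SurjAt Φ X (i + k)) : SurjAt Φ (X⟦k⟧) i := by
  intro l
  have hd : -(i + k) + k = -i := by ring
  obtain ⟨n, β, hβ⟩ := h (l.comp (shPre X ω hd))
  refine ⟨n, β ≫ (shiftFunctorAdd' (Dual.D A) k i (i + k) (add_comm k i)).hom.app X, LinearMap.ext fun y => ?_⟩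
  obtain ⟨x, rfl⟩ := shId_comp_surjective X hd y
  have e := LinearMap.congr_fun hβ x
  rw [θ_apply] at e
  rw [θ_apply, pairD_shId, Category.assoc, Iso.hom_inv_id_app, Category.comp_id, e, LinearMap.comp_apply, shPre_apply]

theorem injAt_shift {k : ℤ} (h : InjAt Φ X (i + k)) : InjAt Φ (X⟦k⟧) i := by
  intro n α hα
  have hd : -(i + k) + k = -i := by ring
  obtain ⟨m, hm, h0⟩ := h n (α ≫ (shiftFunctorAdd' (Dual.D A) k i (i + k) (add_comm k i)).inv.app X)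
    (LinearMap.ext fun x => by
      rw [θ_apply, ← pairD_shId α hd, ← θ_apply, hα]
      rfl)
  refine ⟨m, hm, (cancel_mono ((shiftFunctorAdd' (Dual.D A) k i (i + k) (add_comm k i)).inv.app X)).1 ?_⟩
  rw [Category.assoc, zero_comp]
  exact h0

theorem goodAt_shift {k : ℤ} (h : GoodAt Φ X (i + k)) : GoodAt Φ (X⟦k⟧) i :=
  ⟨injAt_shift h.1, surjAt_shift h.2⟩

end

/-- Gluing along a distinguished triangle. -/
theorem goodAt_glue (hE : Module.Injective A E) {Z : Dual.D A} {f : X ⟶ Y} {g : Y ⟶ Z}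
    {h : Z ⟶ X⟦(1 : ℤ)⟧} (hT : Triangle.mk f g h ∈ distTriang (Dual.D A)) (h₁ : GoodAt Φ X i)
    (h₁' : GoodAt Φ X (i + 1)) (h₃ : GoodAt Φ Z i) (h₃' : GoodAt Φ Z (i - 1)) : GoodAt Φ Y i :=
  goodAt_of_triangle hE hT h₁ h₃ (surjAt_shift h₃'.2) (injAt_shift h₁'.1)

end

end Groth.Agent.DualCxDuality
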