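import Groth.Agent.DualCxDuality.Bounded
import Groth.Agent.DualCx.DualityApps
import Groth.Agent.RGammaI.HDI
import Groth.Agent.RGCompl.Model
import Groth.Agent.CechX.Props
import Groth.Agent.FinAdic.Basic
import Mathlib.CategoryTheory.Triangulated.TStructure.TruncLTGE

/-!
Local duality for unbounded complexes with finite cohomology.
-/

set_option autoImplicit false
set_option maxHeartbeats 1000000
set_option linter.style.haveILetI false
set_option backward.isDefEq.respectTransparency false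
set_option backward.isDefEq.respectTransparency.types false
universe u

namespace Groth.Agent.DualCxDuality

open CategoryTheory Limits DerivedCategory Pretriangulated IsLocalRing DualCx Opposite

attribute [local instance] HasDerivedCategory.standard

noncomputable section

variable {A : Type u} [CommRing A]

theorem EC_eq_zero_above {b : ℤ} {K : DRing.Cx A} (hK : ∀ p, b < p → ∀ x : K.X p, x = 0) :
    ∀ (fs : List A) (p : ℤ), b + fs.length < p → ∀ z : (CechX.EC fs K).X p, z = 0 := by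
  intro fs
  induction fs with
  | nil => exact fun p hp z => hK p (by simpa using hp) z
  | cons f fs ih =>
    intro p hp (z : (CochainComplex.mappingCocone (DerCA.locCxUnit (Submonoid.powers f) (CechX.EC fs K))).X p)
    rw [List.length_cons] at hp
    refine CechX.ext (sub_add_cancel p 1) ?_ ?_
    · exact (ih p (by push_cast at hp; lia) (CechX.pr1 _ p z)).trans (LinearMap.map_zero _).symm
    · refine Eq.trans ?_ (LinearMap.map_zero _).symm
      obtain ⟨x, s, hxs⟩ := CechX.exists_frac _ (p - 1)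
        (CechX.pr2 (DerCA.locCxUnit (Submonoid.powers f) (CechX.EC fs K)) (p - 1) p (sub_add_cancel p 1) z)
      rw [← hxs, CechX.frac_eq_zero_iff, ih (p - 1) (by push_cast at hp; lia) x]
      exact ⟨1, smul_zero _⟩

theorem subsingleton_hd_rgamma_above [IsNoetherianRing A] (I : Ideal A) [DRing.HasRgammaI I] (fs : List A)
    (hI : Ideal.span {a | a ∈ fs} = I) (X : Dual.D A) (d i : ℤ) [X.IsLE d] (hi : d + fs.length < i) :
    Subsingleton (Dual.HD A ((DRing.RgammaI I).obj X) i) := by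
  subst hI
  obtain ⟨K, hK, ⟨e⟩⟩ := DerivedCategory.exists_iso_Q_obj_of_isLE X d
  let C := CechX.EC fs K
  haveI : Subsingleton (C.X i) := subsingleton_of_forall_eq 0
    (EC_eq_zero_above (fun p hp x => @Subsingleton.elim _
      (ModuleCat.subsingleton_of_isZero (K.isZero_of_isStrictlyLE d p hp)) x 0) fs i hi)
  have hz : IsZero (C.homology i) := (HomologicalComplex.exactAt_iff_isZero_homology _ _).1
    (ShortComplex.exact_of_isZero_X₂ _ (ModuleCat.isZero_of_subsingleton (C.X i)))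
  let e' := (DerivedCategory.homologyFunctor (ModuleCat.{u} A) i).mapIso
      ((DRing.RgammaI (Ideal.span {a | a ∈ fs})).mapIso e ≪≫ (RGCompl.θ fs K).symm) ≪≫
    (DerivedCategory.homologyFunctorFactors (ModuleCat.{u} A) i).app C
  exact @Equiv.subsingleton _ _ e'.toLinearEquiv.toEquiv (ModuleCat.subsingleton_of_isZero hz)

variable [IsLocalRing A] [IsNoetherianRing A] {ω : Dual.D A}

theorem exists_vanish_above : ∃ N : ℕ, ∀ (X : Dual.D A) (d i : ℤ), X.IsLE d → d + N < i →
    ∀ (n : ℕ) (α : Qo A n ⟶ X⟦i⟧), ∃ (m : ℕ) (h : n ≤ m), trD h ≫ α = 0 := by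
  obtain ⟨s, hs⟩ := (IsNoetherian.noetherian (maximalIdeal A) : (maximalIdeal A).FG)
  refine ⟨s.toList.length, fun X d i hX hi n α => ?_⟩
  haveI := hX
  haveI : DRing.HasRgammaI (maximalIdeal A) := RGammaI.hasRgammaI _
  haveI := subsingleton_hd_rgamma_above (maximalIdeal A) s.toList
    (by rw [← hs]; simp) X d i hi
  obtain ⟨e⟩ := RGammaI.nonempty_HD_equiv (maximalIdeal A) X i
  haveI : Subsingleton (Dual2.HDI A (maximalIdeal A) X i : ModuleCat.{u + 1} A) := e.symm.toEquiv.subsingleton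
  haveI : PreservesFilteredColimitsOfSize.{0, 0} (CategoryTheory.forget AddCommGrpCat.{u + 1}) :=
    preservesFilteredColimitsOfSize_shrink.{0, u + 1, 0, u + 1} _
  haveI : PreservesColimit (hdiDiag X i) (CategoryTheory.forget (ModuleCat.{u + 1} A)) :=
    comp_preservesColimit (forget₂ (ModuleCat.{u + 1} A) AddCommGrpCat.{u + 1}) (CategoryTheory.forget AddCommGrpCat.{u + 1})
  obtain ⟨⟨⟨m⟩⟩, f₁, f₂, hm⟩ := Concrete.colimit_exists_of_rep_eq (hdiDiag X i) (i := op (op n)) (j := op (op n))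
    α 0 (Subsingleton.elim _ _)
  refine ⟨m, leOfHom f₁.unop.unop, ?_⟩
  rw [map_zero] at hm
  exact hm

variable (hω : Dual.IsDualizing A ω) (hn : Dual.IsNormalized A ω) {E : Type u} [AddCommGroup E] [Module A E]
  {f : (A ⧸ maximalIdeal A) →ₗ[A] E} (hf : InjHull.IsInjectiveHull f) (Φ : Fam ω E)
include hω hn hf

theorem goodAt_of_finite (K : Dual.D A) (hfin : ∀ j, Module.Finite A (Dual.HD A K j)) (i : ℤ) : GoodAt Φ K i := by
  obtain ⟨a₀, b₀, hab⟩ := hω.finite_injective_dimension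
  have hamp := (DRingKP.injAmp_iff ω a₀ b₀).2 fun I j hj => hab (A ⧸ I) j hj
  have hlow : ∀ j : ℤ, j < a₀ → Subsingleton (Dual.HD A ω j) := fun j hj =>
    (homEquiv ω j).toEquiv.subsingleton_congr.1 (DRingKP.ext_eq_zero_of_amp hamp (ModuleCat.of A A) j (Or.inl hj))
  haveI := isGE_of_low hlow
  obtain ⟨N, hN⟩ := exists_vanish_above (A := A)
  let d : ℤ := min (a₀ + i) (i - N) - 1
  let c : ℤ := max d (max i (b₀ + i))
  obtain ⟨X, Y, hX, hY, u₁, v₁, w₁, hT⟩ := DerivedCategory.TStructure.t.exists_triangle K c (c + 1) rfl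
  haveI : X.IsLE c := ⟨hX⟩
  haveI : Y.IsGE (c + 1) := ⟨hY⟩
  obtain ⟨X', Y', hX', hY', u₂, v₂, w₂, hT'⟩ := DerivedCategory.TStructure.t.exists_triangle X d (d + 1) rfl
  haveI : X'.IsLE d := ⟨hX'⟩
  haveI : Y'.IsGE (d + 1) := ⟨hY'⟩
  have hYgood : ∀ j : ℤ, j ≤ i → GoodAt Φ Y j := fun j hj => by
    refine goodAt_of_zero (fun n α => ⟨n, le_rfl, ?_⟩) (subsingleton_hom_of_isGE hamp Y (c + 1) (-j) (by lia))
    have : α = 0 := DerivedCategory.TStructure.t.zero_of_isLE_of_isGE α 0 (c + 1 - j) (by lia)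
      (inferInstance : (Dual.inD A (Q A n)).IsLE 0)
      (DerivedCategory.TStructure.t.isGE_shift Y (c + 1) j (c + 1 - j) (by lia))
    rw [this, comp_zero]
  have hX'good : ∀ j : ℤ, i ≤ j → GoodAt Φ X' j := fun j hj =>
    goodAt_of_zero (hN X' d j inferInstance (by lia)) (subsingleton_of_forall_eq 0 fun v =>
      DerivedCategory.TStructure.t.zero_of_isLE_of_isGE v d (a₀ + j) (by lia) (show X'.IsLE d from ⟨hX'⟩)
        (DerivedCategory.TStructure.t.isGE_shift ω a₀ (-j) (a₀ + j) (by lia)))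
  have hY'le : Y'.IsLE c :=
    DerivedCategory.TStructure.t.isLE₂ _ (rot_of_distTriang _ hT') c (show X.IsLE c from ⟨hX⟩)
      (haveI := DerivedCategory.TStructure.t.isLE_shift X' d 1 (d - 1) (by lia)
       DerivedCategory.TStructure.t.isLE_of_le (X'⟦(1 : ℤ)⟧) (d - 1) c (by lia))
  have hfinY' := (finite_hd_trunc hT' d (finite_hd_trunc hT c hfin).1).2
  have hY'good : ∀ j, GoodAt Φ Y' j := goodAt_bounded hω hn hf Φ Y' hfinY' ⟨d + 1, c, fun j hj => by
    rcases hj with hj | hj
    · exact ModuleCat.subsingleton_of_isZero (DerivedCategory.isZero_of_isGE Y' (d + 1) j hj)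
    · exact ModuleCat.subsingleton_of_isZero (DerivedCategory.isZero_of_isLE Y' c j hj)⟩
  have hXgood : ∀ j : ℤ, i ≤ j → GoodAt Φ X j := fun j hj =>
    goodAt_glue hf.isInjective hT' (hX'good j hj) (hX'good (j + 1) (by lia)) (hY'good j) (hY'good (j - 1))
  exact goodAt_glue hf.isInjective hT (hXgood i le_rfl) (hXgood (i + 1) (by lia)) (hYgood i le_rfl)
    (hYgood (i - 1) (by lia))

omit Φ in
theorem localDuality_hdi (K : Dual.D A) (hfin : ∀ j, Module.Finite A (Dual.HD A K j)) (i : ℤ) :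
    Nonempty (Dual2.HDI A (maximalIdeal A) K i ≃ₗ[A] ((K ⟶ ω⟦-i⟧) →ₗ[A] E)) :=
  nonempty_hdi_equiv hω hn hf K i fun Ψ => goodAt_of_finite hω hn hf Ψ K hfin i

omit Φ in
theorem localDuality_complete [IsAdicComplete (maximalIdeal A) A] (K : Dual.D A)
    (hfin : ∀ j, Module.Finite A (Dual.HD A K j)) (i : ℤ) :
    Nonempty ((K ⟶ ω⟦-i⟧) ≃ₗ[A] (Dual2.HDI A (maximalIdeal A) K i →ₗ[A] E)) := by
  obtain ⟨e⟩ := localDuality_hdi hω hn hf K hfin i
  haveI := finite_hom hω K hfin (-i)
  haveI := FinAdic.isAdicComplete_of_finite (maximalIdeal A) (K ⟶ ω⟦-i⟧)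
  obtain ⟨c⟩ := nonempty_completion_equiv hf (K ⟶ ω⟦-i⟧)
  exact ⟨(LinearEquiv.ofBijective (AdicCompletion.of (maximalIdeal A) (K ⟶ ω⟦-i⟧))
    (AdicCompletion.of_bijective _ _)).trans (c.trans (LinearEquiv.congrLeft E A e.symm))⟩

end

end Groth.Agent.DualCxDuality
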